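import Groth.Agent.EGA43.DvrCrit.GeomFibre

/-!
# Geometric properties of fibres under base change
-/

set_option autoImplicit false
set_option backward.isDefEq.respectTransparency false
set_option linter.style.haveILetI false

universe u

open CategoryTheory CategoryTheory.Limits AlgebraicGeometry

namespace Groth.Agent.EGA43.PtIntegral

open DvrCrit

variable {X Y S : Scheme.{u}} (f : X ⟶ Y) (g : S ⟶ Y)

/-- The field base change of a fibre of a base change is one of the fibre downstairs. -/
theorem exists_bc_iso {y : Y} (s : S) (h : g s = y) (K : Type u) [Field K]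
    [Algebra (IsLocalRing.ResidueField (Y.presheaf.stalk y)) K] [Algebra (IsLocalRing.ResidueField (S.presheaf.stalk s)) K]
    (hK : ∀ a : Y.residueField y, algebraMap (IsLocalRing.ResidueField (S.presheaf.stalk s)) K ((resExt g s h).hom a) =
      algebraMap (IsLocalRing.ResidueField (Y.presheaf.stalk y)) K a) :
    ∃ e : FBase.bc ((pullback.snd f g).fiberToSpecResidueField s) K ≅ FBase.bc (f.fiberToSpecResidueField y) K,
      e.hom ≫ FBase.bcπ (f.fiberToSpecResidueField y) K ≫ f.fiberι y =
        FBase.bcπ ((pullback.snd f g).fiberToSpecResidueField s) K ≫ (pullback.snd f g).fiberι s ≫ pullback.fst f g := by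
  let κ := Spec.map (CommRingCat.ofHom (algebraMap (IsLocalRing.ResidueField (Y.presheaf.stalk y)) K))
  let κ' := Spec.map (CommRingCat.ofHom (algebraMap (IsLocalRing.ResidueField (S.presheaf.stalk s)) K))
  have hκ : (κ' ≫ S.fromSpecResidueField s) ≫ g = κ ≫ Y.fromSpecResidueField y := by
    rw [Category.assoc, ← specMap_resExt g s h, ← Category.assoc]
    congr 1
    show Spec.map (CommRingCat.ofHom (algebraMap (IsLocalRing.ResidueField (S.presheaf.stalk s)) K)) ≫
      Spec.map (resExt g s h) = Spec.map (CommRingCat.ofHom _)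
    rw [← Spec.map_comp]
    congr 1
    ext a
    exact hK a
  let e : pullback (pullback.snd (pullback.snd f g) (S.fromSpecResidueField s)) κ' ≅
      pullback (pullback.snd f (Y.fromSpecResidueField y)) κ :=
    pullbackLeftPullbackSndIso (pullback.snd f g) (S.fromSpecResidueField s) κ' ≪≫
      pullbackLeftPullbackSndIso f g (κ' ≫ S.fromSpecResidueField s) ≪≫ pullback.congrHom rfl hκ ≪≫
      (pullbackLeftPullbackSndIso f (Y.fromSpecResidueField y) κ).symm
  refine ⟨e, ?_⟩
  show e.hom ≫ pullback.fst (pullback.snd f (Y.fromSpecResidueField y)) κ ≫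
      pullback.fst f (Y.fromSpecResidueField y) =
    pullback.fst (pullback.snd (pullback.snd f g) (S.fromSpecResidueField s)) κ' ≫
      pullback.fst (pullback.snd f g) (S.fromSpecResidueField s) ≫ pullback.fst f g
  simp [e, pullbackLeftPullbackSndIso_inv_fst, pullback.congrHom_hom]

/-- A property of local rings holding at all field base changes of a fibre point. -/
def GeomAt (Pr : ∀ (R : Type u) [CommRing R], Prop) {k : Type u} [Field k] {W : Scheme.{u}}
    (p : W ⟶ Spec (CommRingCat.of k)) (x : W) : Prop :=
  ∀ (K : Type u) [Field K] [Algebra k K] (x' : ↥(FBase.bc p K)), (FBase.bcπ p K).base x' = x →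
    Pr ((FBase.bc p K).presheaf.stalk x')

variable {Pr : ∀ (R : Type u) [CommRing R], Prop}
  (hPr : ∀ (R R' : Type u) [CommRing R] [CommRing R'], R ≃+* R' → Pr R → Pr R')

include hPr in
theorem geomAt_baseChange (w : ↑(pullback f g)) {x : X} (hx : pullback.fst f g w = x)
    (hP : GeomAt Pr (f.fiberToSpecResidueField (f x)) (f.asFiber x)) :
    GeomAt Pr ((pullback.snd f g).fiberToSpecResidueField (pullback.snd f g w)) ((pullback.snd f g).asFiber w) := by
  intro K _ _ x' hx'
  have h : g (pullback.snd f g w) = f x := by
    rw [← hx, ← Scheme.Hom.comp_apply, ← Scheme.Hom.comp_apply, pullback.condition]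
  letI : Algebra (IsLocalRing.ResidueField (Y.presheaf.stalk (f x))) K :=
    ((algebraMap (IsLocalRing.ResidueField (S.presheaf.stalk (pullback.snd f g w))) K).comp
      (resExt g _ h).hom).toAlgebra
  obtain ⟨e, he⟩ := exists_bc_iso f g (pullback.snd f g w) h K (fun a => rfl)
  have h1 : FBase.bcπ (f.fiberToSpecResidueField (f x)) K (e.hom x') = f.asFiber x := by
    apply (f.fiberι (f x)).isEmbedding.injective
    have hh : f.fiberι (f x) (FBase.bcπ (f.fiberToSpecResidueField (f x)) K (e.hom x')) =
        pullback.fst f g ((pullback.snd f g).fiberι _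
          (FBase.bcπ ((pullback.snd f g).fiberToSpecResidueField (pullback.snd f g w)) K x')) :=
      congrArg (fun φ : FBase.bc ((pullback.snd f g).fiberToSpecResidueField (pullback.snd f g w)) K ⟶ X => φ x') he
    exact hh.trans ((congrArg (fun q => pullback.fst f g ((pullback.snd f g).fiberι _ q)) hx').trans
      ((congrArg (pullback.fst f g) (Scheme.Hom.fiberι_asFiber _ _)).trans (hx.trans (f.fiberι_asFiber x).symm)))
  exact hPr _ _ (asIso (e.hom.stalkMap x')).commRingCatIsoToRingEquiv (hP K (e.hom x') h1)

include hPr in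
theorem geomAt_of_baseChange (w : ↑(pullback f g)) {x : X} (hx : pullback.fst f g w = x)
    (h : g (pullback.snd f g w) = f x) (hbij : Function.Bijective (resExt g (pullback.snd f g w) h).hom)
    (hP : GeomAt Pr ((pullback.snd f g).fiberToSpecResidueField (pullback.snd f g w))
      ((pullback.snd f g).asFiber w)) :
    GeomAt Pr (f.fiberToSpecResidueField (f x)) (f.asFiber x) := by
  intro K _ _ x' hx'
  let r : Y.residueField (f x) ≃+* S.residueField (pullback.snd f g w) := RingEquiv.ofBijective _ hbij
  letI : Algebra (IsLocalRing.ResidueField (S.presheaf.stalk (pullback.snd f g w))) K :=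
    ((algebraMap (IsLocalRing.ResidueField (Y.presheaf.stalk (f x))) K).comp r.symm.toRingHom).toAlgebra
  obtain ⟨e, he⟩ := exists_bc_iso f g (pullback.snd f g w) h K (fun a =>
    congrArg (algebraMap (IsLocalRing.ResidueField (Y.presheaf.stalk (f x))) K) (r.symm_apply_apply a))
  obtain ⟨t, rfl⟩ : ∃ t, e.hom t = x' := e.hom.homeomorph.surjective x'
  have h1 : (pullback.fst f g) ((pullback.snd f g).fiberι _
      (FBase.bcπ ((pullback.snd f g).fiberToSpecResidueField (pullback.snd f g w)) K t)) = x := by
    have hh : f.fiberι (f x) (FBase.bcπ (f.fiberToSpecResidueField (f x)) K (e.hom t)) =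
        pullback.fst f g ((pullback.snd f g).fiberι _
          (FBase.bcπ ((pullback.snd f g).fiberToSpecResidueField (pullback.snd f g w)) K t)) :=
      congrArg (fun φ : FBase.bc ((pullback.snd f g).fiberToSpecResidueField (pullback.snd f g w)) K ⟶ X => φ t) he
    exact hh.symm.trans ((congrArg (f.fiberι (f x)) hx').trans (f.fiberι_asFiber x))
  haveI : IsIso (Spec.map (resExt g (pullback.snd f g w) h)) := by
    haveI : IsIso (resExt g (pullback.snd f g w) h) := (ConcreteCategory.isIso_iff_bijective _).2 hbij
    infer_instance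
  obtain ⟨e', he'⟩ := exists_fiber_iso f g (pullback.snd f g w) h
  letI : Algebra (IsLocalRing.ResidueField (Y.presheaf.stalk (f x))) (S.residueField (pullback.snd f g w)) :=
    (resExt g _ h).hom.toAlgebra
  haveI : IsIso (FBase.bcπ (f.fiberToSpecResidueField (f x)) (S.residueField (pullback.snd f g w))) := by
    haveI : IsIso (Spec.map (CommRingCat.ofHom (algebraMap (IsLocalRing.ResidueField (Y.presheaf.stalk (f x)))
        (S.residueField (pullback.snd f g w))))) := ‹IsIso (Spec.map (resExt g (pullback.snd f g w) h))›
    exact inferInstanceAs (IsIso (pullback.fst _ _))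
  have hinj : Function.Injective ((pullback.snd f g).fiberι (pullback.snd f g w) ≫ pullback.fst f g).base := by
    rw [← he']
    exact (e'.hom ≫ FBase.bcπ _ _ ≫ f.fiberι (f x)).isEmbedding.injective
  have h2 : FBase.bcπ ((pullback.snd f g).fiberToSpecResidueField (pullback.snd f g w)) K t =
      (pullback.snd f g).asFiber w := by
    apply hinj
    exact h1.trans (hx.symm.trans (congrArg (pullback.fst f g) (Scheme.Hom.fiberι_asFiber _ _).symm))
  exact hPr _ _ (asIso (e.hom.stalkMap t)).commRingCatIsoToRingEquiv.symm (hP K t h2)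

end Groth.Agent.EGA43.PtIntegral
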