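import Groth.Agent.EGA43.PtIntegral.Main
import Groth.Agent.EGA43.OpenAt
import Groth.Agent.DimLib.Maximal

/-!
# EGA IV 15.3.3: exactly one component through the point
-/

set_option autoImplicit false
set_option backward.isDefEq.respectTransparency false
set_option linter.style.haveILetI false

universe u

open CategoryTheory CategoryTheory.Limits AlgebraicGeometry IsLocalRing

namespace Groth.Agent.EGA43.PtIntegral

open Groth.Agent Groth.Agent.EGA43.DimFormula DvrCrit FlatMorWeight

variable {X Y : Scheme.{u}} (f : X ⟶ Y)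

theorem existsUnique_maximalPt_of_geomUnibranch [IsLocallyNoetherian Y] [LocallyOfFiniteType f] (x : X)
    (hopen : ∀ z : ↥(f.fiber (f x)), f.asFiber x ∈ closure {z} →
      (∀ z' : ↥(f.fiber (f x)), z ∈ closure {z'} → z' = z) → EGA43.IsUnivOpenAt f (f.fiberι (f x) z))
    (hint : FBase.IsGeomPtIntegralAt (f.fiberToSpecResidueField (f x)) (f.asFiber x))
    (hY : CAlg2.IsGeomUnibranch (Y.presheaf.stalk (f x))) :
    ∃! η : X, IsMaximalPt η ∧ η ⤳ x := by
  let O := Y.presheaf.stalk (f x)
  haveI : Nontrivial (O ⧸ nilradical O) := Ideal.Quotient.nontrivial_iff.2 fun e =>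
    not_isNilpotent_one (mem_nilradical.1 (show (1 : O) ∈ nilradical O from e ▸ trivial))
  haveI : IsLocalRing (O ⧸ nilradical O) := .of_surjective' (Ideal.Quotient.mk _) Ideal.Quotient.mk_surjective
  haveI : IsLocalHom (Ideal.Quotient.mk (nilradical O)) := IsLocalHom.of_surjective _ Ideal.Quotient.mk_surjective
  let φ : O →+* O ⧸ nilradical O := Ideal.Quotient.mk _
  let g := FlatBC.specTo f x φ
  haveI : IsClosedImmersion (Spec.map (CommRingCat.ofHom φ)) :=
    IsClosedImmersion.spec_of_surjective _ Ideal.Quotient.mk_surjective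
  haveI : IsPreimmersion g := inferInstanceAs (IsPreimmersion (Spec.map (CommRingCat.ofHom φ) ≫ Y.fromSpecStalk (f x)))
  have hg : Set.range g = {y | y ⤳ f x} := by
    have hs : Function.Surjective (Spec.map (CommRingCat.ofHom φ)) := fun q => by
      have hle : nilradical O ≤ (q : PrimeSpectrum O).asIdeal := nilradical_le_prime _
      refine ⟨⟨(q : PrimeSpectrum O).asIdeal.map φ, ?_⟩, PrimeSpectrum.ext ?_⟩
      · exact Ideal.map_isPrime_of_surjective Ideal.Quotient.mk_surjective (by rwa [Ideal.mk_ker])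
      · show Ideal.comap φ (Ideal.map φ _) = _
        rw [Ideal.comap_map_of_surjective' φ Ideal.Quotient.mk_surjective, Ideal.mk_ker, sup_eq_left.2 hle]
    rw [Scheme.Hom.comp_base, TopCat.coe_comp, hs.range_comp]
    exact Scheme.range_fromSpecStalk
  have hfg : f x = g (closedPoint (O ⧸ nilradical O)) :=
    FlatBC.specTo_apply f x φ _ (IsLocalRing.eq_maximalIdeal
      (Ideal.comap_isMaximal_of_surjective φ Ideal.Quotient.mk_surjective
        (K := maximalIdeal (O ⧸ nilradical O))))
  obtain ⟨w, hw1, hw2⟩ := Scheme.Pullback.exists_preimage_pullback (f := f) (g := g) x _ hfg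
  obtain ⟨hdom, hgu⟩ := isGeomUnibranch_quotient_nilradical hY
  let e : (O ⧸ nilradical O) ≃+* (Spec (CommRingCat.of (O ⧸ nilradical O))).presheaf.stalk (pullback.snd f g w) :=
    RingEquiv.ofBijective _ (FlatBC.toStalk_bijective (O ⧸ nilradical O) (pullback.snd f g w) (congrArg PrimeSpectrum.asIdeal hw2))
  have h := (isDomain_and_flat (pullback.snd f g) w (fun z' hz' hmax => by
      obtain ⟨z, hz, hzmax, hzz⟩ := exists_generic_image f g w hw1 z' (specializes_iff_mem_closure.2 hz')
        fun t ht => hmax t (specializes_iff_mem_closure.1 ht)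
      exact isUnivOpenAt_of_isPullback (hopen z (specializes_iff_mem_closure.1 hz)
        fun t ht => hzmax t (specializes_iff_mem_closure.2 ht)) (IsPullback.of_hasPullback f g) hzz)
    (geomAt_baseChange f g (Pr := fun R _ => IsDomain R)
      (fun R R' _ _ e h => MulEquiv.isDomain _ e.symm.toMulEquiv) w hw1 hint)
    (MulEquiv.isDomain _ e.symm.toMulEquiv) (Unibranch.isGeomUnibranch_of_ringEquiv e hgu)).1
  obtain ⟨η, ⟨hη, hηw⟩, huniq⟩ := existsUnique_maximalPt w h
  have hemb := (pullback.fst f g).isEmbedding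
  have hlift : ∀ ξ : X, ξ ⤳ x → ∃ t, pullback.fst f g t = ξ := fun ξ hξ => by
    have hr : ξ ∈ Set.range (pullback.fst f g) := by
      rw [Scheme.Pullback.range_fst, Set.mem_preimage, hg]
      exact hξ.map f.continuous
    exact hr
  have hηx : pullback.fst f g η ⤳ x := hw1 ▸ hηw.map (pullback.fst f g).continuous
  refine ⟨pullback.fst f g η, ⟨fun t ht => ?_, hηx⟩, fun ξ hξ => ?_⟩
  · obtain ⟨t', rfl⟩ := hlift t (ht.trans hηx)
    rw [hη t' (hemb.isInducing.specializes_iff.1 ht)]
  · obtain ⟨t', rfl⟩ := hlift ξ hξ.2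
    rw [huniq t' ⟨fun s hs => hemb.injective (hξ.1 _ (hs.map (pullback.fst f g).continuous)),
      hemb.isInducing.specializes_iff.1 (hw1.symm ▸ hξ.2)⟩]

/-- Exactly one irreducible component passes through the point. -/
theorem existsUnique_component (x : X) (h : ∃! η : X, IsMaximalPt η ∧ η ⤳ x) :
    ∃! Z : Set X, Z ∈ irreducibleComponents (X : Type u) ∧ x ∈ Z := by
  obtain ⟨η, ⟨hη, hηx⟩, huniq⟩ := h
  refine ⟨closure {η}, ⟨(DimLib.mem_components_iff η).2 fun y hy => (hη y hy).symm ▸ specializes_rfl,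
    specializes_iff_mem_closure.1 hηx⟩, ?_⟩
  rintro Z ⟨hZ, hxZ⟩
  obtain ⟨η', hgp, hmax⟩ := DimLib.exists_genericPoint_of_mem_components hZ
  have : η' = η := huniq η' ⟨fun t ht => (hmax t ht).symm, specializes_iff_mem_closure.2 (hgp.def.symm ▸ hxZ)⟩
  rw [← hgp.def, this]

end Groth.Agent.EGA43.PtIntegral
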