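import Groth.Agent.EGA43.PtIntegral.Transfer
import Groth.Agent.EGA43.Cons.Topological
import Mathlib

/-!
# Loci of fibres with a geometric property at every point
-/

set_option autoImplicit false
set_option backward.isDefEq.respectTransparency false

universe u

open CategoryTheory CategoryTheory.Limits AlgebraicGeometry Topology

namespace Groth.Agent.EGA43.PtIntegral

variable {X S : Scheme.{u}} {Pr : ∀ (R : Type u) [CommRing R], Prop}

theorem isLocallyConstructible_forall_geomAt (f : X ⟶ S) [LocallyOfFinitePresentation f] [QuasiCompact f]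
    (h : IsLocallyConstructible {x : X | GeomAt Pr (f.fiberToSpecResidueField (f x)) (f.asFiber x)}) :
    IsLocallyConstructible {s : S |
      ∀ (K : Type u) [Field K] [Algebra (IsLocalRing.ResidueField (S.presheaf.stalk s)) K]
        (x' : ↥(FBase.bc (f.fiberToSpecResidueField s) K)),
        Pr ((FBase.bc (f.fiberToSpecResidueField s) K).presheaf.stalk x')} := by
  convert EGA43.Cons.isLocallyConstructible_compl
    (f.isLocallyConstructible_image (EGA43.Cons.isLocallyConstructible_compl h)) using 1
  ext s
  constructor
  · rintro hs ⟨x, hx, rfl⟩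
    exact hx fun K _ _ x' _ => hs K x'
  · intro hs K _ _ x'
    have key : ∀ (x : X) (y : S) (_ : f x = y), GeomAt Pr (f.fiberToSpecResidueField (f x)) (f.asFiber x) →
        ∀ z : f.fiber y, f.fiberι y z = x → GeomAt Pr (f.fiberToSpecResidueField y) z := by
      rintro x _ rfl hx z hz
      rwa [(f.fiberι (f x)).isEmbedding.injective (hz.trans (Scheme.Hom.fiberι_asFiber f x).symm)]
    let z : f.fiber s := FBase.bcπ (f.fiberToSpecResidueField s) K x'
    have hy : f (f.fiberι s z) = s := (f.range_fiberι s).le ⟨z, rfl⟩
    refine key _ s hy ?_ z rfl K x' rfl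
    by_contra hn
    exact hs ⟨_, hn, hy⟩

end Groth.Agent.EGA43.PtIntegral
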