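import Groth.Agent.EGA43.Unibranch.AffineSpace
import Groth.Agent.FEtFF.EtaleGeomUnibranchScheme
import Mathlib.AlgebraicGeometry.Morphisms.Smooth
import Mathlib.RingTheory.RingHom.StandardSmooth

/-!
# Smooth morphisms preserve geometrically unibranch domains
-/

set_option autoImplicit false
set_option backward.isDefEq.respectTransparency false
set_option linter.style.haveILetI false

universe u

open CategoryTheory AlgebraicGeometry

namespace Groth.Agent.EGA43.PtIntegral

attribute [local instance] MvPolynomial.algebraMvPolynomial in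
theorem isDomain_localization_mvPolynomial {R : Type u} [CommRing R] (σ : Type u) (p : Ideal R) [p.IsPrime]
    (q : Ideal (MvPolynomial σ R)) [q.IsPrime] (hpq : q.comap MvPolynomial.C = p) (A : Type u) [CommRing A]
    [IsDomain A] [Algebra R A] [IsLocalization.AtPrime A p] : IsDomain (Localization.AtPrime q) := by
  let M : Submonoid (MvPolynomial σ R) := p.primeCompl.map MvPolynomial.C
  haveI : IsLocalization M (MvPolynomial σ A) := MvPolynomial.isLocalization p.primeCompl A
  have hle : M ≤ q.primeCompl := by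
    rintro _ ⟨s, hs, rfl⟩ h
    exact hs (hpq ▸ h : s ∈ p)
  letI := IsLocalization.localizationAlgebraOfSubmonoidLe (MvPolynomial σ A) (Localization.AtPrime q) M q.primeCompl hle
  haveI := IsLocalization.localization_isScalarTower_of_submonoid_le (MvPolynomial σ A) (Localization.AtPrime q) M
    q.primeCompl hle
  haveI := IsLocalization.isLocalization_of_submonoid_le (MvPolynomial σ A) (Localization.AtPrime q) M q.primeCompl hle
  refine IsLocalization.isDomain_of_le_nonZeroDivisors (R := MvPolynomial σ A) (Localization.AtPrime q)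
    (M := q.primeCompl.map (algebraMap (MvPolynomial σ R) (MvPolynomial σ A))) (fun a ha => ?_)
  rw [mem_nonZeroDivisors_iff_ne_zero]
  rintro rfl
  obtain ⟨s, hs, hs0⟩ := ha
  obtain ⟨m, hm⟩ := (IsLocalization.map_eq_zero_iff M (MvPolynomial σ A) s).1 hs0
  exact mul_notMem' (hle m.2) hs (hm ▸ q.zero_mem)
where
  mul_notMem' {S : Type u} [CommRing S] {q : Ideal S} [q.IsPrime] {a b : S} (ha : a ∉ q) (hb : b ∉ q) : a * b ∉ q :=
    fun h => (Ideal.IsPrime.mem_or_mem inferInstance h).elim ha hb

/-- At a point of a smooth morphism over a geometrically unibranch domain. -/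
theorem isDomain_and_isGeomUnibranch_stalk_of_smooth {X Y : Scheme.{u}} (f : X ⟶ Y) [Smooth f] (x : X)
    (hY : IsDomain (Y.presheaf.stalk (f x))) (hY' : CAlg2.IsGeomUnibranch (Y.presheaf.stalk (f x))) :
    IsDomain (X.presheaf.stalk x) ∧ CAlg2.IsGeomUnibranch (X.presheaf.stalk x) := by
  obtain ⟨W, hW, V, hV, hxV, e, hstd⟩ := Smooth.exists_isStandardSmooth f x
  obtain ⟨n, g₀, hg₀, het₀⟩ := hstd.exists_etale_mvPolynomial
  let ρ : MvPolynomial (ULift.{u} (Fin n)) Γ(Y, W) ≃ₐ[Γ(Y, W)] MvPolynomial (Fin n) Γ(Y, W) :=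
    MvPolynomial.renameEquiv _ Equiv.ulift
  let g : MvPolynomial (ULift.{u} (Fin n)) Γ(Y, W) →+* Γ(X, V) := g₀.comp ρ.toRingEquiv.toRingHom
  have het : g.Etale := RingHom.Etale.respectsIso.2 g₀ ρ.toRingEquiv het₀
  letI := g.toAlgebra
  haveI : Algebra.Etale (MvPolynomial (ULift.{u} (Fin n)) Γ(Y, W)) Γ(X, V) := RingHom.etale_algebraMap.1 het
  letI := Y.presheaf.algebra_section_stalk (⟨f x, e hxV⟩ : W)
  letI := X.presheaf.algebra_section_stalk (⟨x, hxV⟩ : V)
  haveI := hW.isLocalization_stalk ⟨f x, e hxV⟩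
  haveI := hV.isLocalization_stalk ⟨x, hxV⟩
  let p := (hW.primeIdealOf ⟨f x, e hxV⟩).asIdeal
  let q := (hV.primeIdealOf ⟨x, hxV⟩).asIdeal
  let q1 : Ideal (MvPolynomial (ULift.{u} (Fin n)) Γ(Y, W)) := q.comap g
  have hC : g.comp MvPolynomial.C = (f.appLE W V e).hom := by
    rw [← hg₀]
    ext a
    simp [g, ρ]
  have hpq : q1.comap MvPolynomial.C = p := by
    rw [Ideal.comap_comap, hC]
    exact congrArg PrimeSpectrum.asIdeal (IsAffineOpen.comap_primeIdealOf_appLE W hW V hV e hxV)
  haveI := isDomain_localization_mvPolynomial _ p q1 hpq (Y.presheaf.stalk (f x))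
  have hT1 := Unibranch.isGeomUnibranch_localization_mvPolynomial n p q1 hpq (Y.presheaf.stalk (f x)) hY'
    (Localization.AtPrime q1)
  exact FEtFF.isDomain_and_isGeomUnibranch_atPrime_of_etale q1 hT1 q rfl

end Groth.Agent.EGA43.PtIntegral
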