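import Groth.Agent.EGA43.DvrCrit.OpenNhd
import Groth.Agent.EGA43.PtIntegral.Transfer
import Groth.Agent.EGA43.PtIntegral.SmoothUnibranch
import Groth.Agent.SmoothLib.StalkCrit
import Groth.Agent.DVRDom.Points

/-!
# EGA IV 15.3.3: a unique branch under a geometrically integral fibre
-/

set_option autoImplicit false
set_option backward.isDefEq.respectTransparency false
set_option linter.style.haveILetI false

universe u

open CategoryTheory CategoryTheory.Limits AlgebraicGeometry IsLocalRing

namespace Groth.Agent.EGA43.PtIntegral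

open Groth.Agent Groth.Agent.EGA43.DimFormula DvrCrit FlatMorWeight

/-- A regular element generating a prime ideal of a Noetherian local ring forces a domain. -/
theorem isDomain_of_regular_prime {B : Type u} [CommRing B] [IsLocalRing B] [IsNoetherianRing B] (t : B)
    (ht : t ∈ maximalIdeal B) (hreg : IsSMulRegular B t) (hdom : IsDomain (B ⧸ Ideal.span {t})) : IsDomain B := by
  haveI := hdom
  haveI hP : (Ideal.span {t}).IsPrime := (Ideal.Quotient.isDomain_iff_prime _).1 hdom
  have hdec : ∀ b : B, b ≠ 0 → ∃ (n : ℕ) (c : B), c ∉ Ideal.span {t} ∧ b = t ^ n * c := by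
    intro b hb
    by_contra hne
    push Not at hne
    have hall : ∀ n : ℕ, b ∈ Ideal.span {t} ^ n := by
      intro n
      induction n with
      | zero => simp
      | succ n ih =>
        rw [Ideal.span_singleton_pow] at ih ⊢
        obtain ⟨c, rfl⟩ := Ideal.mem_span_singleton'.1 ih
        by_cases hc : c ∈ Ideal.span {t}
        · obtain ⟨d, rfl⟩ := Ideal.mem_span_singleton'.1 hc
          exact Ideal.mem_span_singleton'.2 ⟨d, by ring⟩
        · exact absurd (mul_comm c (t ^ n)) (hne n c hc)
    have h0 : b ∈ ⨅ n : ℕ, Ideal.span {t} ^ n := Submodule.mem_iInf _ |>.2 hall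
    rw [Ideal.iInf_pow_eq_bot_of_isLocalRing _ (ne_top_of_le_ne_top (maximalIdeal.isMaximal B).ne_top
      ((Ideal.span_singleton_le_iff_mem _).2 ht))] at h0
    exact hb ((Submodule.mem_bot B).1 h0)
  haveI : NoZeroDivisors B := ⟨fun {a b} hab => by
    by_contra hne
    push Not at hne
    obtain ⟨n, c, hc, rfl⟩ := hdec a hne.1
    obtain ⟨m, d, hd, rfl⟩ := hdec b hne.2
    have h1 : t ^ (n + m) * (c * d) = t ^ (n + m) * 0 := by rw [mul_zero, ← hab]; ring
    have h2 : c * d = 0 := (hreg.pow (n + m)) h1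
    exact (hP.mem_or_mem (h2 ▸ zero_mem _ : c * d ∈ Ideal.span {t})).elim hc hd⟩
  exact NoZeroDivisors.to_isDomain B

theorem isGeomUnibranch_quotient_nilradical {A : Type u} [CommRing A] [IsLocalRing A] (hA : CAlg2.IsGeomUnibranch A)
    [IsLocalRing (A ⧸ nilradical A)] : IsDomain (A ⧸ nilradical A) ∧ CAlg2.IsGeomUnibranch (A ⧸ nilradical A) := by
  obtain ⟨C, _, _, _, _, _, _, hker, hbir, hins⟩ := Unibranch.exists_normalization hA
  let κ : A ⧸ nilradical A →+* C :=
    Ideal.Quotient.lift (nilradical A) (algebraMap A C) fun a ha => RingHom.mem_ker.1 (hker.symm ▸ ha)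
  have hκ : Function.Injective κ := Ideal.injective_lift_iff _ |>.2 hker
  letI : Algebra (A ⧸ nilradical A) C := κ.toAlgebra
  haveI : IsScalarTower A (A ⧸ nilradical A) C := .of_algebraMap_eq fun a => (Ideal.Quotient.lift_mk _ _ _).symm
  haveI : Algebra.IsIntegral (A ⧸ nilradical A) C := Algebra.IsIntegral.tower_top A
  haveI : IsDomain (A ⧸ nilradical A) := hκ.isDomain κ
  refine ⟨inferInstance, Unibranch.isGeomUnibranch_of_normalization (C := C) ?_ (fun c => ?_) fun x => ?_⟩
  · rw [show nilradical (A ⧸ nilradical A) = ⊥ from nilradical_eq_zero _]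
    exact (RingHom.injective_iff_ker_eq_bot _).1 hκ
  · obtain ⟨s, hs, a, ha⟩ := hbir c
    refine ⟨Ideal.Quotient.mk _ s, fun h => hs ?_, Ideal.Quotient.mk _ a, ?_⟩
    · rw [show nilradical (A ⧸ nilradical A) = ⊥ from nilradical_eq_zero _] at h
      exact Ideal.Quotient.eq_zero_iff_mem.1 h
    · show κ (Ideal.Quotient.mk _ s) * c = κ (Ideal.Quotient.mk _ a)
      simpa [κ] using ha
  · obtain ⟨n, a, ha⟩ := hins x
    refine ⟨n, Ideal.Quotient.mk _ a, Eq.trans ?_ ha⟩
    show Ideal.Quotient.mk (maximalIdeal C) (κ (Ideal.Quotient.mk _ a)) = _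
    simp [κ]

variable {X Y S : Scheme.{u}} (f : X ⟶ Y) (g : S ⟶ Y)

/-- Geometric pointwise integrality gives integrality of the fibre of any base change above the point. -/
theorem isDomain_fiber_baseChange (w : ↑(pullback f g)) {x : X} (hx : pullback.fst f g w = x)
    (hint : FBase.IsGeomPtIntegralAt (f.fiberToSpecResidueField (f x)) (f.asFiber x)) :
    IsDomain (((pullback.snd f g).fiber (pullback.snd f g w)).presheaf.stalk ((pullback.snd f g).asFiber w)) := by
  have h : g (pullback.snd f g w) = f x := by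
    rw [← hx, ← Scheme.Hom.comp_apply, ← Scheme.Hom.comp_apply, pullback.condition]
  letI : Algebra (IsLocalRing.ResidueField (Y.presheaf.stalk (f x))) (S.residueField (pullback.snd f g w)) :=
    (resExt g _ h).hom.toAlgebra
  obtain ⟨e, he⟩ := exists_fiber_iso f g (pullback.snd f g w) h
  haveI := hint (S.residueField (pullback.snd f g w)) (e.hom ((pullback.snd f g).asFiber w)) (by
    apply (f.fiberι (f x)).isEmbedding.injective
    rw [f.fiberι_asFiber]
    show (FBase.bcπ (f.fiberToSpecResidueField (f x)) (S.residueField (pullback.snd f g w)) ≫ f.fiberι (f x))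
      (e.hom ((pullback.snd f g).asFiber w)) = x
    rw [← Scheme.Hom.comp_apply, he, Scheme.Hom.comp_apply, Scheme.Hom.fiberι_asFiber, hx])
  exact MulEquiv.isDomain _ (asIso (e.hom.stalkMap ((pullback.snd f g).asFiber w))).commRingCatIsoToRingEquiv.symm.toMulEquiv

theorem isGeomReducedAt_of_ptIntegral {k : Type u} [Field k] {W : Scheme.{u}} {p : W ⟶ Spec (CommRingCat.of k)}
    {x : W} (h : FBase.IsGeomPtIntegralAt p x) : FBase.IsGeomReducedAt p x := fun K _ _ x' hx' =>
  haveI := h K x' hx'
  inferInstance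

/-- A point with domain local ring has exactly one maximal generisation. -/
theorem existsUnique_maximalPt {W : Scheme.{u}} (w : W) (h : IsDomain (W.presheaf.stalk w)) :
    ∃! η : W, IsMaximalPt η ∧ η ⤳ w := by
  refine ⟨toPt w ⟨⊥, Ideal.isPrime_bot⟩, ⟨(mem_minimalPrimes_iff w _).1 ?_, toPt_specializes w _⟩, ?_⟩
  · rw [IsDomain.minimalPrimes_eq_singleton_bot]
    rfl
  · rintro η ⟨hmax, hsp⟩
    obtain ⟨P, rfl⟩ := exists_toPt hsp
    have hP := (mem_minimalPrimes_iff w P).2 hmax
    rw [IsDomain.minimalPrimes_eq_singleton_bot, Set.mem_singleton_iff] at hP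
    exact congrArg (toPt w) (PrimeSpectrum.ext hP)

/-- Every maximal generisation of `x` generises the generic point of the fibre through `x`. -/
theorem specializes_generic_of_maximal [IsLocallyNoetherian Y] [LocallyOfFiniteType f] (x : X)
    (hopen : ∀ z : ↥(f.fiber (f x)), f.asFiber x ∈ closure {z} →
      (∀ z' : ↥(f.fiber (f x)), z ∈ closure {z'} → z' = z) → EGA43.IsUnivOpenAt f (f.fiberι (f x) z))
    (hint : FBase.IsGeomPtIntegralAt (f.fiberToSpecResidueField (f x)) (f.asFiber x))
    (z : f.fiber (f x)) (huniq : ∀ t, t ⤳ f.asFiber x → (∀ t', t' ⤳ t → t' = t) → t = z)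
    (ξ : X) (hξ : IsMaximalPt ξ) (hξx : ξ ⤳ x) : ξ ⤳ f.fiberι (f x) z := by
  by_cases hfξ : f ξ = f x
  · obtain ⟨t, rfl⟩ : ξ ∈ Set.range (f.fiberι (f x)) := by rw [f.range_fiberι]; exact hfξ
    rw [huniq t ((f.fiberι (f x)).isEmbedding.isInducing.specializes_iff.1 (by rwa [f.fiberι_asFiber]))
      fun t' ht' => (f.fiberι (f x)).isEmbedding.injective (hξ _ (ht'.map (f.fiberι (f x)).continuous))]
  haveI : IsLocallyNoetherian X := LocallyOfFiniteType.isLocallyNoetherian f
  obtain ⟨V, _, _, _, m, hm1, hm2⟩ := DVRDom.exists_dvr_point hξx fun e => hfξ (congrArg f e)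
  let g := m ≫ f
  let s : Spec (CommRingCat.of V) ⟶ pullback f g := pullback.lift m (𝟙 _) (by simp [g])
  let w := s (closedPoint V)
  have hw : pullback.fst f g w = x := by
    rw [← Scheme.Hom.comp_apply, pullback.lift_fst, hm1]
  have hw' : pullback.snd f g w = closedPoint V := by
    rw [← Scheme.Hom.comp_apply, pullback.lift_snd]
    rfl
  haveI : IsLocallyNoetherian (pullback f g) := LocallyOfFiniteType.isLocallyNoetherian (pullback.snd f g)
  have hflat := (flat_and_isReduced_baseChange f x hopen (isGeomReducedAt_of_ptIntegral hint) g w hw hw').1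
  have hgw : g (pullback.snd f g w) = f x := by
    rw [← hw]
    exact (congrArg (fun φ : pullback f g ⟶ Y => φ w) pullback.condition).symm
  -- the prime cutting out the closed fibre
  let I := (maximalIdeal ((Spec (CommRingCat.of V)).presheaf.stalk (pullback.snd f g w))).map
    ((pullback.snd f g).stalkMap w).hom
  obtain ⟨eq⟩ := CMChart.exists_fibre_stalk_equiv (pullback.snd f g) w
  haveI := isDomain_fiber_baseChange f g w hw hint
  haveI hdom : IsDomain ((pullback f g).presheaf.stalk w ⧸ I) := MulEquiv.isDomain _ eq.toMulEquiv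
  haveI hIp : I.IsPrime := (Ideal.Quotient.isDomain_iff_prime I).1 hdom
  obtain ⟨π, hπ⟩ := IsDiscreteValuationRing.exists_irreducible V
  let e : V ≃+* (Spec (CommRingCat.of V)).presheaf.stalk (pullback.snd f g w) :=
    RingEquiv.ofBijective _ (FlatBC.toStalk_bijective V (pullback.snd f g w) (congrArg PrimeSpectrum.asIdeal hw'))
  have hspan : I = Ideal.span {((pullback.snd f g).stalkMap w).hom (e π)} := by
    show Ideal.map _ _ = _
    rw [← IsLocalRing.map_maximalIdeal_of_surjective e.toRingHom e.surjective, hπ.maximalIdeal_eq, Ideal.map_span,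
      Ideal.map_span, Set.image_singleton, Set.image_singleton]
    rfl
  haveI : IsDomain ((pullback f g).presheaf.stalk w) := by
    refine isDomain_of_regular_prime _ ?_ ?_ (hspan ▸ hdom)
    · refine le_maximalIdeal hIp.ne_top ?_
      rw [hspan]
      exact Ideal.mem_span_singleton_self _
    · letI := ((pullback.snd f g).stalkMap w).hom.toAlgebra
      haveI : Module.Flat ((Spec (CommRingCat.of V)).presheaf.stalk (pullback.snd f g w))
        ((pullback f g).presheaf.stalk w) := hflat
      have hne : e π ≠ 0 := (map_ne_zero_iff e e.injective).2 hπ.ne_zero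
      haveI : IsDomain ((Spec (CommRingCat.of V)).presheaf.stalk (pullback.snd f g w)) :=
        MulEquiv.isDomain _ e.symm.toMulEquiv
      intro a b hab
      have h1 := Module.Flat.lTensor_preserves_injective_linearMap
        (M := (pullback f g).presheaf.stalk w)
        (LinearMap.lsmul _ ((Spec (CommRingCat.of V)).presheaf.stalk (pullback.snd f g w)) (e π))
        (fun u v huv => mul_left_cancel₀ hne huv)
      apply (TensorProduct.rid ((Spec (CommRingCat.of V)).presheaf.stalk (pullback.snd f g w))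
        ((pullback f g).presheaf.stalk w)).symm.injective
      apply h1
      simp only [TensorProduct.rid_symm_apply, LinearMap.lTensor_tmul, LinearMap.lsmul_apply]
      rw [TensorProduct.tmul_smul, TensorProduct.tmul_smul, TensorProduct.smul_tmul', TensorProduct.smul_tmul',
        show e π • a = e π • b from hab]
  let P0 : PrimeSpectrum ((pullback f g).presheaf.stalk w) := ⟨I, hIp⟩
  let η := toPt w ⟨⊥, Ideal.isPrime_bot⟩
  have hη : ∀ v, v ⤳ w → η ⤳ v := fun v hv => by
    obtain ⟨Q, rfl⟩ := exists_toPt hv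
    exact (toPt_specializes_iff w _ Q).2 bot_le
  -- `η` lies over `ξ`
  have hηξ : pullback.fst f g η = ξ := by
    let z₀ : ↥(Spec (CommRingCat.of (FractionRing V))) := closedPoint (FractionRing V)
    let p := Spec.map (CommRingCat.ofHom (algebraMap V (FractionRing V))) z₀
    have hp : pullback.fst f g (s p) = ξ := by
      rw [← Scheme.Hom.comp_apply, pullback.lift_fst]
      exact hm2 z₀
    refine hξ _ (hp ▸ (hη (s p) ?_).map (pullback.fst f g).continuous)
    exact (IsLocalRing.specializes_closedPoint p).map s.continuous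
  have hfib : pullback.snd f g (toPt w P0) = pullback.snd f g w :=
    (mem_fibre_iff_le (pullback.snd f g) w P0).1 le_rfl
  obtain ⟨z', hz'⟩ : toPt w P0 ∈ Set.range ((pullback.snd f g).fiberι (pullback.snd f g w)) := by
    rw [Scheme.Hom.range_fiberι]; exact hfib
  let ι' := (pullback.snd f g).fiberι (pullback.snd f g w)
  have hz'sp : z' ⤳ (pullback.snd f g).asFiber w := ι'.isEmbedding.isInducing.specializes_iff.1 (by
    rw [hz', Scheme.Hom.fiberι_asFiber]; exact toPt_specializes w P0)
  obtain ⟨c, hc, hcmax, hcz⟩ := exists_generic_image f g w hw z' hz'sp fun t ht => by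
    apply ι'.isEmbedding.injective
    obtain ⟨Q, hQ⟩ := exists_toPt (show ι' t ⤳ w by
      have := (ht.trans hz'sp).map ι'.continuous
      rwa [Scheme.Hom.fiberι_asFiber] at this)
    have hQI : I ≤ Q.asIdeal := (mem_fibre_iff_le (pullback.snd f g) w Q).2 (by
      rw [hQ]; exact ((pullback.snd f g).range_fiberι _).le ⟨t, rfl⟩)
    have hle : Q ≤ P0 := (toPt_specializes_iff w Q P0).1 (by rw [hQ, ← hz']; exact ht.map ι'.continuous)
    show ι' t = ι' z'
    rw [← hQ, show Q = P0 from le_antisymm hle hQI, ← hz']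
  rw [← huniq c hc hcmax, ← hcz, hz', ← hηξ]
  exact (hη _ (toPt_specializes w P0)).map (pullback.fst f g).continuous

/-- EGA IV 15.3.3 over a geometrically unibranch integral point. -/
theorem isDomain_and_flat [IsLocallyNoetherian Y] [LocallyOfFiniteType f] (x : X)
    (hopen : ∀ z : ↥(f.fiber (f x)), f.asFiber x ∈ closure {z} →
      (∀ z' : ↥(f.fiber (f x)), z ∈ closure {z'} → z' = z) → EGA43.IsUnivOpenAt f (f.fiberι (f x) z))
    (hint : FBase.IsGeomPtIntegralAt (f.fiberToSpecResidueField (f x)) (f.asFiber x))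
    (hY : IsDomain (Y.presheaf.stalk (f x))) (hY' : CAlg2.IsGeomUnibranch (Y.presheaf.stalk (f x))) :
    IsDomain (X.presheaf.stalk x) ∧ (f.stalkMap x).hom.Flat := by
  have hred := isGeomReducedAt_of_ptIntegral hint
  have hflat := flat_stalkMap_of_univOpen_of_geomReduced f x inferInstance hopen hred
  refine ⟨?_, hflat⟩
  haveI : LocallyOfFinitePresentation f := inferInstance
  haveI : IsLocallyNoetherian X := LocallyOfFiniteType.isLocallyNoetherian f
  have hgood : x ∈ {x : X | ((f.stalkMap x).hom.Flat ∧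
      FBase.IsGeomReducedAt (f.fiberToSpecResidueField (f x)) (f.asFiber x)) ∧
      _root_.IsReduced (Y.presheaf.stalk (f x))} := ⟨⟨hflat, hred⟩, inferInstance⟩
  haveI := isReduced_stalk_of_goodLocus f hgood
  haveI hF : IsDomain ((f.fiber (f x)).presheaf.stalk (f.asFiber x)) := by
    let π := FBase.bcπ (f.fiberToSpecResidueField (f x)) (IsLocalRing.ResidueField (Y.presheaf.stalk (f x)))
    haveI : IsIso π := by
      haveI : IsIso (Spec.map (CommRingCat.ofHom (algebraMap (IsLocalRing.ResidueField (Y.presheaf.stalk (f x)))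
          (IsLocalRing.ResidueField (Y.presheaf.stalk (f x)))))) := by
        haveI : IsIso (CommRingCat.ofHom (algebraMap (IsLocalRing.ResidueField (Y.presheaf.stalk (f x)))
            (IsLocalRing.ResidueField (Y.presheaf.stalk (f x))))) := inferInstanceAs (IsIso (𝟙 _))
        infer_instance
      exact inferInstanceAs (IsIso (pullback.fst _ _))
    obtain ⟨t, ht⟩ := (asIso π).hom.homeomorph.surjective (f.asFiber x)
    haveI := hint (IsLocalRing.ResidueField (Y.presheaf.stalk (f x))) t ht
    have key : IsDomain ((f.fiber (f x)).presheaf.stalk (π t)) :=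
      MulEquiv.isDomain _ (asIso (π.stalkMap t)).commRingCatIsoToRingEquiv.toMulEquiv
    rwa [show π t = f.asFiber x from ht] at key
  obtain ⟨z, ⟨hzmax, hz⟩, huniq⟩ := existsUnique_maximalPt (f.asFiber x) hF
  -- the fibre is smooth at `z`
  have hsm : FibDepth.SmoothP f (f x) z := by
    refine ((FibDepth.isGeomReducedAt_iff f (f x) (f.asFiber x)).1 hred).1 z hz ?_
    rw [← IsLocalRing.maximalIdeal_height_eq_ringKrullDim,
      Ideal.height_eq_zero_iff.2 (by
        have := (mem_minimalPrimes_iff z (closedPoint _)).2 (by rwa [toPt_closedPoint])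
        exact this)]
    rfl
  have hzx : f.fiberι (f x) z ⤳ x := by
    have := hz.map (f.fiberι (f x)).continuous
    rwa [f.fiberι_asFiber] at this
  have hfz : f (f.fiberι (f x) z) = f x := (f.range_fiberι (f x)).le ⟨z, rfl⟩
  have hsmooth := SmoothLib.formallySmooth_stalkMap_of_fibre f (f x) z
    (hzx.mem_open (isOpen_goodLocus f) hgood).1.1 hsm
  obtain ⟨U, hzU, _⟩ := (SmoothLib.smooth_nhd_iff f _).2 hsmooth
  haveI hzdom : IsDomain (X.presheaf.stalk (f.fiberι (f x) z)) := by
    have hY1 : IsDomain (Y.presheaf.stalk ((U.ι ≫ f) ⟨_, hzU⟩)) := by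
      rw [show (U.ι ≫ f) ⟨_, hzU⟩ = f x from hfz]; exact hY
    have hY2 : CAlg2.IsGeomUnibranch (Y.presheaf.stalk ((U.ι ≫ f) ⟨_, hzU⟩)) := by
      rw [show (U.ι ≫ f) ⟨_, hzU⟩ = f x from hfz]; exact hY'
    haveI := (isDomain_and_isGeomUnibranch_stalk_of_smooth (U.ι ≫ f) ⟨_, hzU⟩ hY1 hY2).1
    exact MulEquiv.isDomain _ (U.stalkIso ⟨_, hzU⟩).symm.commRingCatIsoToRingEquiv.toMulEquiv
  obtain ⟨η, ⟨hη, -⟩, hηu⟩ := existsUnique_maximalPt _ hzdom
  have hall : ∀ P : PrimeSpectrum (X.presheaf.stalk x), P.asIdeal ∈ minimalPrimes _ → toPt x P = η := fun P hP =>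
    hηu _ ⟨(mem_minimalPrimes_iff x P).1 hP,
      specializes_generic_of_maximal f x hopen hint z (fun t h1 h2 => huniq t ⟨h2, h1⟩) _
        ((mem_minimalPrimes_iff x P).1 hP) (toPt_specializes x P)⟩
  obtain ⟨P, hP⟩ := Ideal.nonempty_minimalPrimes (I := (⊥ : Ideal (X.presheaf.stalk x))) bot_ne_top
  haveI : P.IsPrime := hP.1.1
  have hbot : P = ⊥ := by
    refine le_bot_iff.1 fun a ha => (Submodule.mem_bot _).2 (IsNilpotent.eq_zero (mem_nilradical.1 ?_))
    rw [nilradical_eq_sInf, Ideal.mem_sInf]
    intro q (hq : q.IsPrime)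
    obtain ⟨Q, hQ, hQq⟩ := Ideal.exists_minimalPrimes_le (J := q) (bot_le : (⊥ : Ideal _) ≤ q)
    have := toPt_injective x ((hall ⟨P, hP.1.1⟩ hP).trans (hall ⟨Q, hQ.1.1⟩ hQ).symm)
    exact hQq ((congrArg PrimeSpectrum.asIdeal this).le ha)
  haveI : (⊥ : Ideal (X.presheaf.stalk x)).IsPrime := hbot ▸ hP.1.1
  exact IsDomain.of_bot_isPrime _

end Groth.Agent.EGA43.PtIntegral
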